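import Cfsg.Agent.RecogLin.Spec
import Cfsg.Agent.Zassenhaus.AbelianKernel
import Cfsg.Agent.Zassenhaus.EvenSharp
import Cfsg.Agent.Classical.SmallSimple
import Cfsg.Agent.SL2Class.PSL

/-!
A group with the order and spectrum of `PSL(2, q)` is a Zassenhaus group on its Sylow
`p`-subgroups, hence `PSL(2, q)`.
-/

set_option autoImplicit false
set_option linter.style.haveILetI false

namespace Cfsg.Agent.RecogLin

open Subgroup MulAction

variable {G : Type*} [Group G] [Finite G] {p q d : ℕ}

namespace Spec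

variable (S : Spec G p q d)
include S

theorem eq_one_of_pow_of_not_dvd {g : G} (hg : g ^ p = 1) (h : ¬ p ∣ orderOf g) : g = 1 := by
  rcases (Nat.dvd_prime S.hp).1 (orderOf_dvd_of_pow_eq_one hg) with h' | h'
  · exact orderOf_eq_one_iff.1 h'
  · exact absurd (h' ▸ dvd_rfl) h

/-- A `p`-element of the normaliser of a Sylow subgroup lies in it. -/
theorem mem_of_mem_normalizer (P : Sylow p G) {g : G} (hg : g ∈ normalizer ((P : Subgroup G) : Set G))
    (hgp : g ^ p = 1) : g ∈ (P : Subgroup G) := by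
  haveI := Fact.mk S.hp
  have hz : IsPGroup p (zpowers g) := fun ⟨w, hw⟩ => by
    obtain ⟨i, rfl⟩ := mem_zpowers_iff.1 hw
    exact ⟨1, Subtype.ext (by
      simp only [pow_one, SubmonoidClass.mk_pow, Subgroup.coe_one]
      rw [← zpow_natCast, ← zpow_mul, mul_comm, zpow_mul, zpow_natCast, hgp, one_zpow])⟩
  have h1 : g ∈ zpowers g ⊓ normalizer ((P : Subgroup G) : Set G) := ⟨mem_zpowers g, hg⟩
  have e := hz.inf_normalizer_sylow P
  exact ((SetLike.ext_iff.1 e g).1 h1).2

/-- A non-trivial element of a Sylow subgroup fixes no other one. -/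
theorem eq_one_of_smul_eq {P Q : Sylow p G} (hQ : Q ≠ P) {u : G} (hu : u ∈ (P : Subgroup G))
    (h : u • Q = Q) : u = 1 := by
  haveI := Fact.mk S.hp
  have hQ' := S.mem_of_mem_normalizer Q (Sylow.smul_eq_iff_mem_normalizer.1 h)
    (S.pow_p_of_mem P.2 hu)
  have h1 : u ∈ (P : Subgroup G) ⊓ Q := ⟨hu, hQ'⟩
  rw [S.sylow_inf_eq_bot P Q (Ne.symm hQ), mem_bot] at h1
  exact h1

theorem smul_ne {P Q : Sylow p G} (hQ : Q ≠ P) {u : G} (hu : u ∈ (P : Subgroup G)) :
    u • Q ≠ P := fun h => hQ (by
  rw [eq_inv_smul_iff.2 h]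
  exact Sylow.smul_eq_iff_mem_normalizer.2 (inv_mem (le_normalizer hu)))

/-- The number of Sylow subgroups, and the order of a normaliser. -/
theorem counts [Fact p.Prime] (P : Sylow p G) :
    Nat.card (Sylow p G) = q + 1 ∧
      d * Nat.card (normalizer ((P : Subgroup G) : Set G)) = q * (q - 1) := by
  classical
  set H := normalizer ((P : Subgroup G) : Set G) with hH
  have hq := S.hq
  -- the order of `H` is `q e`
  obtain ⟨e, he⟩ : q ∣ Nat.card H := S.card_sylow P ▸ card_dvd_of_le le_normalizer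
  set K : Subgroup H := (P : Subgroup G).subgroupOf H with hK
  have hKc : Nat.card K = q := by
    rw [hK, Nat.card_congr (subgroupOfEquivOfLe le_normalizer).toEquiv, S.card_sylow P]
  have hidx : K.index = e := by
    have h := card_mul_index K
    rw [hKc, he] at h
    exact Nat.eq_of_mul_eq_mul_left (by omega) h
  have hpe : ¬ p ∣ e := by
    intro hdvd
    have h1 : p ^ ((Nat.card G).factorization p + 1) ∣ Nat.card G := by
      rw [pow_succ, S.factorization_card]
      exact (Nat.mul_dvd_mul_left q hdvd).trans (he ▸ card_subgroup_dvd_card H)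
    exact absurd ((Nat.Prime.pow_dvd_iff_le_factorization S.hp Nat.card_pos.ne').1 h1) (by omega)
  have heq : e ∣ q - 1 := by
    haveI : K.Normal := Subgroup.normal_in_normalizer
    obtain ⟨f, -, hqf⟩ := S.hpq
    obtain ⟨L, hL⟩ := exists_right_complement'_of_coprime (N := K) (by
      rw [hKc, hidx, hqf]; exact Nat.Coprime.pow_left f (S.hp.coprime_iff_not_dvd.2 hpe))
    have hLc : Nat.card L = e := by
      have := hL.card_mul
      rw [hKc, he] at this
      exact Nat.eq_of_mul_eq_mul_left (by omega) this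
    letI : MulAction L {u : (P : Subgroup G) // u ≠ 1} :=
      { smul := fun l u => ⟨(P : Subgroup G).normalizerMonoidHom (l : H) u.1,
          fun h => u.2 (((P : Subgroup G).normalizerMonoidHom (l : H)).injective
            (h.trans (map_one _).symm))⟩
        one_smul := fun u => Subtype.ext (by
          show (P : Subgroup G).normalizerMonoidHom ((1 : L) : H) u.1 = u.1
          rw [OneMemClass.coe_one, map_one]; rfl)
        mul_smul := fun l m u => Subtype.ext (by
          show (P : Subgroup G).normalizerMonoidHom ((l * m : L) : H) u.1 = _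
          rw [Subgroup.coe_mul, map_mul]; rfl) }
    have hdvd := Core.card_dvd_of_free (A := L) (X := {u : (P : Subgroup G) // u ≠ 1}) fun u => by
      rw [eq_bot_iff]
      intro l hl
      rw [MulAction.mem_stabilizer_iff] at hl
      have h1 : ((l : H) : G) * (u.1 : G) * ((l : H) : G)⁻¹ = (u.1 : G) :=
        congrArg Subtype.val (congrArg Subtype.val hl)
      have h2 := S.pow_p_of_commute (x := (u.1 : G)) (g := ((l : H) : G))
        (S.pow_p_of_mem P.2 u.1.2) (fun h => u.2 (Subtype.ext h)) (mul_inv_eq_iff_eq_mul.1 h1).symm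
      have h3 : ¬ p ∣ orderOf ((l : H) : G) := fun h => hpe
        (hLc ▸ (h.trans (by
          rw [Subgroup.orderOf_coe, Subgroup.orderOf_coe]; exact _root_.orderOf_dvd_natCard l)))
      rw [mem_bot]
      exact Subtype.ext (Subtype.ext (S.eq_one_of_pow_of_not_dvd h2 h3))
    rw [hLc] at hdvd
    haveI := Fintype.ofFinite (P : Subgroup G)
    rwa [Nat.card_eq_fintype_card, Fintype.card_subtype_compl, Fintype.card_subtype_eq,
      ← Nat.card_eq_fintype_card, S.card_sylow P] at hdvd
  -- the number of Sylow subgroups is `1` modulo `q`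
  have hn : Nat.card (Sylow p G) * Nat.card H = Nat.card G := by
    rw [mul_comm, Sylow.card_eq_index_normalizer P]
    exact card_mul_index H
  have hmod : q ∣ Nat.card (Sylow p G) - 1 := by
    letI : MulAction (P : Subgroup G) {Q : Sylow p G // Q ≠ P} :=
      { smul := fun u Q => ⟨(u : G) • Q.1, S.smul_ne Q.2 u.2⟩
        one_smul := fun Q => Subtype.ext (one_smul G Q.1)
        mul_smul := fun u v Q => Subtype.ext (mul_smul (u : G) (v : G) Q.1) }
    have hdvd := Core.card_dvd_of_free (A := (P : Subgroup G)) (X := {Q : Sylow p G // Q ≠ P})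
      fun Q => by
        rw [eq_bot_iff]
        intro u hu
        rw [MulAction.mem_stabilizer_iff] at hu
        rw [mem_bot]
        exact Subtype.ext (S.eq_one_of_smul_eq Q.2 u.2 (congrArg Subtype.val hu))
    haveI := Fintype.ofFinite (Sylow p G)
    rwa [S.card_sylow P, Nat.card_eq_fintype_card, Fintype.card_subtype_compl,
      Fintype.card_subtype_eq, ← Nat.card_eq_fintype_card] at hdvd
  obtain ⟨k, hk⟩ := hmod
  have hn1 : 0 < Nat.card (Sylow p G) := Nat.card_pos
  set n := Nat.card (Sylow p G) with hn'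
  have hd12 : 0 < d ∧ d ≤ 2 := by
    rcases S.d_cases with ⟨-, h, -⟩ | ⟨-, h, -⟩ <;> omega
  have hprod : d * e * (1 + q * k) = q ^ 2 - 1 := by
    refine Nat.eq_of_mul_eq_mul_left (show 0 < q by omega) ?_
    rw [← S.card, ← hn, he, show n = 1 + q * k by omega]
    ring
  have hq1 : q ∣ d * e + 1 := by
    have hpos : 1 ≤ q ^ 2 := Nat.one_le_pow _ _ (by omega)
    have h2 : d * e + 1 + q * (d * e * k) = q * q := by
      have : d * e * (1 + q * k) + 1 = q ^ 2 := by omega
      rw [← pow_two, ← this]; ring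
    exact (Nat.dvd_add_left (dvd_mul_right q _)).1 (h2 ▸ dvd_mul_right q q)
  have hde : d * e = q - 1 := by
    obtain ⟨l, hl⟩ := hq1
    have hle : d * e ≤ 2 * (q - 1) :=
      Nat.mul_le_mul hd12.2 (Nat.le_of_dvd (by omega) heq)
    rcases l with _ | _ | l
    · simp at hl
    · omega
    · have : q * (l + 1 + 1) = q * l + q + q := by ring
      omega
  refine ⟨?_, ?_⟩
  · have h1 : (q - 1) * n = (q - 1) * (q + 1) := by
      rw [show n = 1 + q * k by omega, ← hde, hprod, show d * e = q - 1 from hde, mul_comm (q - 1)]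
      simpa using Nat.sq_sub_sq q 1
    exact Nat.eq_of_mul_eq_mul_left (by omega) h1
  · rw [he, ← mul_assoc, mul_comm d q, mul_assoc, hde]

/-- A Sylow subgroup is regular on the others. -/
theorem regular [Fact p.Prime] (P : Sylow p G) {Q R : Sylow p G} (hQ : Q ≠ P) (hR : R ≠ P) :
    ∃! u : (P : Subgroup G), (u : G) • Q = R := by
  classical
  haveI := Fintype.ofFinite (Sylow p G)
  let f : ↥(P : Subgroup G) → {X : Sylow p G // X ≠ P} :=
    fun u => ⟨(u : G) • Q, S.smul_ne hQ u.2⟩
  have hinj : Function.Injective f := fun u v h => by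
    have h' : (u : G) • Q = (v : G) • Q := congrArg Subtype.val h
    have := S.eq_one_of_smul_eq hQ (mul_mem (inv_mem v.2) u.2)
      (show ((v : G)⁻¹ * u) • Q = Q by rw [mul_smul, h', inv_smul_smul])
    exact Subtype.ext (inv_mul_eq_one.1 this).symm
  have hbij := hinj.bijective_of_nat_card_le (by
    rw [Nat.card_eq_fintype_card (α := {X : Sylow p G // X ≠ P}), Fintype.card_subtype_compl,
      Fintype.card_subtype_eq, ← Nat.card_eq_fintype_card, (S.counts P).1, S.card_sylow P]
    omega)
  obtain ⟨u, hu⟩ := hbij.2 ⟨R, hR⟩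
  exact ⟨u, congrArg Subtype.val hu, fun v hv => hinj (Subtype.ext (hv.trans (congrArg Subtype.val hu).symm))⟩

theorem two_le_twoPt [Fact p.Prime] {P Q : Sylow p G} (hQ : Q ≠ P) :
    d * Nat.card (Zassenhaus.twoPt G P Q) = q - 1 := by
  have h2 := (S.counts P).2
  let f : ↥(P : Subgroup G) × Zassenhaus.twoPt G P Q → normalizer ((P : Subgroup G) : Set G) :=
    fun x => ⟨(x.1 : G) * x.2,
      mul_mem (le_normalizer x.1.2) (Sylow.smul_eq_iff_mem_normalizer.1 x.2.2.1)⟩
  have hbij : Function.Bijective f := by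
    constructor
    · rintro ⟨u, h⟩ ⟨v, k⟩ e
      have e' : (u : G) * h = (v : G) * k := congrArg Subtype.val e
      have h1 : (v : G)⁻¹ * u = (k : G) * (h : G)⁻¹ := by
        calc (v : G)⁻¹ * u = (v : G)⁻¹ * ((u : G) * h) * (h : G)⁻¹ := by group
          _ = _ := by rw [e']; group
      have h2 : ((v : G)⁻¹ * u) • Q = Q := by
        rw [h1, mul_smul, inv_smul_eq_iff.2 h.2.2.symm, k.2.2]
      have h3 := S.eq_one_of_smul_eq hQ (mul_mem (inv_mem v.2) u.2) h2
      have hu : u = v := Subtype.ext (inv_mul_eq_one.1 h3).symm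
      subst hu
      exact Prod.ext rfl (Subtype.ext (mul_left_cancel e'))
    · rintro ⟨g, hg⟩
      have hgP : g • P = P := Sylow.smul_eq_iff_mem_normalizer.2 hg
      have hne : g • Q ≠ P := fun h => hQ (smul_left_cancel g (h.trans hgP.symm))
      obtain ⟨u, hu, -⟩ := S.regular P hQ hne
      refine ⟨⟨u, ⟨(u : G)⁻¹ * g, ?_, ?_⟩⟩, Subtype.ext ?_⟩
      · show ((u : G)⁻¹ * g) • P = P
        rw [mul_smul, hgP]
        exact Sylow.smul_eq_iff_mem_normalizer.2 (inv_mem (le_normalizer u.2))
      · show ((u : G)⁻¹ * g) • Q = Q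
        rw [mul_smul, ← hu, inv_smul_smul]
      · show (u : G) * ((u : G)⁻¹ * g) = g
        group
  rw [← Nat.card_eq_of_bijective f hbij, Nat.card_prod, S.card_sylow P, mul_left_comm] at h2
  exact Nat.eq_of_mul_eq_mul_left (by have := S.hq; omega) h2

theorem isZassenhausGroup [Fact p.Prime] : Cfsg.IsZassenhausGroup G (Sylow p G) := by
  classical
  haveI := Fintype.ofFinite (Sylow p G)
  have hq := S.hq
  have hn : Nat.card (Sylow p G) = q + 1 :=
    (S.counts (Classical.arbitrary (Sylow p G))).1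
  obtain ⟨P, Q, hPQ⟩ : ∃ P Q : Sylow p G, P ≠ Q := Fintype.exists_pair_of_one_lt_card (by
    rw [← Nat.card_eq_fintype_card, hn]; omega)
  have three : ∀ (g : G) (A B C : Sylow p G), A ≠ B → B ≠ C → A ≠ C → g • A = A → g • B = B →
      g • C = C → g = 1 := by
    intro g A B C hAB hBC hAC hgA hgB hgC
    obtain ⟨u, hu, huniq⟩ := S.regular A (Ne.symm hAB) (Ne.symm hAC)
    have hgn := Sylow.smul_eq_iff_mem_normalizer.1 hgA
    have hgu : g * u * g⁻¹ ∈ (A : Subgroup G) := (mem_normalizer_iff.1 hgn _).1 u.2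
    have hgu' : (g * u * g⁻¹) • B = C := by
      rw [mul_smul, mul_smul, inv_smul_eq_iff.2 hgB.symm, hu, hgC]
    have e : g * u * g⁻¹ = u := congrArg Subtype.val (huniq ⟨_, hgu⟩ hgu')
    have hu1 : (u : G) ≠ 1 := fun h => hBC (by rw [← hu, h, one_smul])
    have hgp := S.pow_p_of_commute (S.pow_p_of_mem A.2 u.2) hu1 (mul_inv_eq_iff_eq_mul.1 e).symm
    exact S.eq_one_of_smul_eq (Ne.symm hAB) (S.mem_of_mem_normalizer A hgn hgp) hgB
  refine ⟨⟨fun {g₁ g₂} h => ?_⟩, MulAction.is_two_pretransitive_iff.2 ?_, three, ?_, ?_⟩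
  · obtain ⟨C, hC, hC'⟩ := Zassenhaus.exists_third (by rw [hn]; omega) P Q
    refine (inv_mul_eq_one.1 (three (g₂⁻¹ * g₁) P Q C hPQ (Ne.symm hC') (Ne.symm hC) ?_ ?_ ?_)).symm
    all_goals rw [mul_smul, h, inv_smul_smul]
  · intro A B C D hAB hCD
    obtain ⟨g, hg⟩ := MulAction.exists_smul_eq G A C
    have hne : g • B ≠ C := fun h => hAB (smul_left_cancel g (hg.trans h.symm))
    obtain ⟨u, hu, -⟩ := S.regular C hne (Ne.symm hCD)
    exact ⟨(u : G) * g, by
      rw [mul_smul, hg]; exact Sylow.smul_eq_iff_mem_normalizer.2 (le_normalizer u.2),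
      by rw [mul_smul, hu]⟩
  · have hT := S.two_le_twoPt (Ne.symm hPQ)
    have h1 : 1 < Nat.card (Zassenhaus.twoPt G P Q) := by
      rcases Nat.lt_or_ge 1 (Nat.card (Zassenhaus.twoPt G P Q)) with h | h
      · exact h
      · rcases S.d_cases with ⟨-, h', -⟩ | ⟨-, h', -⟩ <;>
          interval_cases (Nat.card (Zassenhaus.twoPt G P Q)) <;> omega
    obtain ⟨g, hg, hg1⟩ :=
      (Zassenhaus.twoPt G P Q).bot_or_exists_ne_one.resolve_left
        ((one_lt_card_iff_ne_bot _).1 h1)
    exact ⟨g, hg1, P, Q, hPQ, hg.1, hg.2⟩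
  · intro N hN htr
    by_contra hno
    push Not at hno
    have hNc : Nat.card N = q + 1 := by
      rw [← hn]
      refine Nat.card_eq_of_bijective (fun x : N => x • P) ⟨fun x y h => ?_, fun X => ?_⟩
      · have hmem : y⁻¹ * x ∈ MulAction.stabilizer N P := by
          rw [MulAction.mem_stabilizer_iff, mul_smul]
          show y⁻¹ • (x • P) = P
          rw [show x • P = y • P from h, inv_smul_smul]
        rw [hno P, mem_bot] at hmem
        exact (inv_mul_eq_one.1 hmem).symm
      · exact MulAction.exists_smul_eq N P X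
    have hNP : ∀ x ∈ N, x ∈ normalizer ((P : Subgroup G) : Set G) → x = 1 := fun x hx hx' => by
      have hmem : (⟨x, hx⟩ : N) ∈ MulAction.stabilizer N P :=
        Sylow.smul_eq_iff_mem_normalizer.2 hx'
      rw [hno P, mem_bot] at hmem
      exact congrArg Subtype.val hmem
    -- `P` is regular on the non-trivial elements of `N`
    have hfree : ∀ u ∈ (P : Subgroup G), u ≠ 1 → ∀ x ∈ N, u * x = x * u → x = 1 := by
      intro u hu hu1 x hx hc
      refine hNP x hx ?_
      by_contra hx'
      have hxp := S.pow_p_of_commute (S.pow_p_of_mem P.2 hu) hu1 hc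
      refine absurd (S.eq_one_of_smul_eq (P := P) (Q := x • P)
        (fun h => hx' (Sylow.smul_eq_iff_mem_normalizer.1 h)) hu ?_) hu1
      rw [← mul_smul, hc, mul_smul, Sylow.smul_eq_iff_mem_normalizer.2 (le_normalizer hu)]
    haveI : Fact (Nat.Prime (q + 1).minFac) := ⟨Nat.minFac_prime (by omega)⟩
    set r := (q + 1).minFac with hr
    have hrd : r ∣ q + 1 := Nat.minFac_dvd _
    obtain ⟨x₀, hx₀⟩ := exists_prime_orderOf_dvd_card' (G := N) r (by rw [hNc]; exact hrd)
    have hexp : ∀ x ∈ N, x ^ r = 1 := by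
      intro x hx
      by_cases hx1 : x = 1
      · rw [hx1, one_pow]
      let f : ↥(P : Subgroup G) → {y : N // y ≠ 1} := fun u =>
        ⟨⟨(u : G) * x₀ * (u : G)⁻¹, hN.conj_mem _ x₀.2 _⟩, fun h => by
          have h' : (u : G) * x₀ * (u : G)⁻¹ = 1 := congrArg Subtype.val h
          rw [mul_inv_eq_one, mul_eq_left] at h'
          rw [show x₀ = 1 from Subtype.ext h', orderOf_one] at hx₀
          exact (Nat.minFac_prime (show q + 1 ≠ 1 by omega)).ne_one hx₀.symm⟩
      have hinj : Function.Injective f := fun u v h => by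
        have h' : (u : G) * x₀ * (u : G)⁻¹ = (v : G) * x₀ * (v : G)⁻¹ :=
          congrArg Subtype.val (congrArg Subtype.val h)
        by_contra huv
        have hx0 := hfree ((v : G)⁻¹ * u) (mul_mem (inv_mem v.2) u.2)
          (fun e => huv (Subtype.ext (inv_mul_eq_one.1 e).symm)) x₀ x₀.2 (by
            calc (v : G)⁻¹ * u * x₀ = (v : G)⁻¹ * ((u : G) * x₀ * (u : G)⁻¹) * u := by group
              _ = _ := by rw [h']; group)
        rw [show x₀ = 1 from Subtype.ext hx0, orderOf_one] at hx₀
        exact (Nat.minFac_prime (show q + 1 ≠ 1 by omega)).ne_one hx₀.symm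
      haveI := Fintype.ofFinite N
      have hbij := hinj.bijective_of_nat_card_le (by
        rw [Nat.card_eq_fintype_card (α := {y : N // y ≠ 1}), Fintype.card_subtype_compl,
          Fintype.card_subtype_eq, ← Nat.card_eq_fintype_card, hNc, S.card_sylow P]
        omega)
      obtain ⟨u, hu⟩ := hbij.2 ⟨⟨x, hx⟩, fun h => hx1 (congrArg Subtype.val h)⟩
      have hu' : (u : G) * x₀ * (u : G)⁻¹ = x := congrArg Subtype.val (congrArg Subtype.val hu)
      rw [← hu', conj_pow, show (x₀ : G) ^ r = 1 by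
        rw [← hx₀, ← Subgroup.orderOf_coe, pow_orderOf_eq_one]]
      group
    rcases S.d_cases with ⟨hp2, hd1, -⟩ | ⟨hp2, hd2, hq2⟩
    · -- involutions of `P` invert `N`
      have hinv : ∀ u ∈ (P : Subgroup G), u ≠ 1 → ∀ x ∈ N, u * x * u⁻¹ = x⁻¹ := by
        intro u hu hu1 x hx
        let σ : N → N := fun y => ⟨u * y * u⁻¹, hN.conj_mem _ y.2 _⟩
        let σ' : N →* N :=
          { toFun := σ
            map_one' := Subtype.ext (by show u * 1 * u⁻¹ = 1; group)
            map_mul' := fun a b => Subtype.ext (by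
              show u * ((a : G) * b) * u⁻¹ = u * a * u⁻¹ * (u * b * u⁻¹)
              group) }
        have hfix : MonoidHom.FixedPointFree (σ' : N → N) := fun y hy => Subtype.ext
          (hfree u hu hu1 y y.2 (mul_inv_eq_iff_eq_mul.1 (congrArg Subtype.val hy)))
        have hu2 : u * u = 1 := by
          have := S.pow_p_of_mem P.2 hu
          rwa [hp2, pow_two] at this
        have hsq : Function.Involutive (σ' : N → N) := fun y => Subtype.ext (by
          show u * (u * (y : G) * u⁻¹) * u⁻¹ = y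
          rw [show u * (u * (y : G) * u⁻¹) * u⁻¹ = (u * u) * y * (u * u)⁻¹ by group, hu2]
          group)
        exact congrArg Subtype.val (congrFun (hfix.coe_eq_inv_of_involutive hsq) ⟨x, hx⟩)
      obtain ⟨u, hu, hu1⟩ := (P : Subgroup G).bot_or_exists_ne_one.resolve_left
        ((one_lt_card_iff_ne_bot _).1 (by rw [S.card_sylow P]; omega))
      obtain ⟨v, hv, hv1, hvu⟩ : ∃ v ∈ (P : Subgroup G), v ≠ 1 ∧ v ≠ u := by
        by_contra hcon
        push Not at hcon
        have hsub : ((P : Subgroup G) : Set G) ⊆ {1, u} := fun v hv => by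
          by_cases h : v = 1
          · exact Or.inl h
          · exact Or.inr (hcon v hv h)
        have := (Set.ncard_le_ncard hsub (Set.toFinite _)).trans
          ((Set.ncard_insert_le _ _).trans (by rw [Set.ncard_singleton]))
        rw [← Nat.card_coe_set_eq] at this
        change Nat.card (P : Subgroup G) ≤ 2 at this
        rw [S.card_sylow P] at this
        omega
      have hw : v⁻¹ * u ≠ 1 := fun e => hvu (inv_mul_eq_one.1 e)
      have hx0 := hfree (v⁻¹ * u) (mul_mem (inv_mem hv) hu) hw x₀ x₀.2 (by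
        refine mul_inv_eq_iff_eq_mul.1 ?_
        calc v⁻¹ * u * (x₀ : G) * (v⁻¹ * u)⁻¹ = v⁻¹ * (u * x₀ * u⁻¹) * v := by group
          _ = v⁻¹ * (v * x₀ * v⁻¹) * v := by rw [hinv u hu hu1 _ x₀.2, hinv v hv hv1 _ x₀.2]
          _ = x₀ := by group)
      rw [show x₀ = 1 from Subtype.ext hx0, orderOf_one] at hx₀
      exact (Nat.minFac_prime (show q + 1 ≠ 1 by omega)).ne_one hx₀.symm
    · -- the exponent of `N` is two
      have hr2 : r = 2 := by rw [hr, Nat.minFac_eq_two_iff]; omega
      obtain ⟨y, hy⟩ := S.exi ((q + 1) / d) (Or.inr dvd_rfl)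
      subst hd2
      have hidx : 2 * N.index = q * (q - 1) := by
        have h := card_mul_index N
        refine Nat.eq_of_mul_eq_mul_left (show 0 < q + 1 by omega) ?_
        rw [show (q + 1) * (2 * N.index) = 2 * (Nat.card N * N.index) by rw [hNc]; ring, h, S.card,
          show q ^ 2 - 1 = (q + 1) * (q - 1) by simpa using Nat.sq_sub_sq q 1]
        ring
      have hodd : Odd N.index := by
        -- a group of exponent two has order a power of two
        have hNp : IsPGroup 2 N := fun x =>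
          ⟨1, Subtype.ext (by simpa [hr2] using hexp x x.2)⟩
        haveI : Fact (Nat.Prime 2) := ⟨Nat.prime_two⟩
        obtain ⟨j, hj⟩ := IsPGroup.iff_card.1 hNp
        rw [hNc] at hj
        have hj3 : 3 ≤ j := by
          by_contra hlt
          interval_cases j <;> omega
        have h4 : 4 ∣ q + 1 := hj ▸ pow_dvd_pow 2 (show 2 ≤ j by omega)
        rw [Nat.odd_iff]
        obtain ⟨a, ha⟩ := h4
        have h5 : q * (q - 1) = 2 * (q * ((q - 1) / 2)) := by
          rw [← mul_assoc, mul_comm 2 q, mul_assoc]; congr 1; omega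
        rw [show N.index = q * ((q - 1) / 2) by omega, Nat.mul_mod, hq2]
        omega
      haveI := hN
      have hyN : y ∈ N := by
        rw [← QuotientGroup.eq_one_iff]
        have h1 : orderOf (y : G ⧸ N) ∣ (q + 1) / 2 :=
          hy ▸ orderOf_map_dvd (QuotientGroup.mk' N) y
        have h2 : orderOf (y : G ⧸ N) ∣ N.index := by
          rw [index_eq_card]; exact _root_.orderOf_dvd_natCard _
        have hcop : Nat.Coprime ((q + 1) / 2) N.index := by
          have hNp : IsPGroup 2 N := fun x =>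
            ⟨1, Subtype.ext (by simpa [hr2] using hexp x x.2)⟩
          haveI : Fact (Nat.Prime 2) := ⟨Nat.prime_two⟩
          obtain ⟨j, hj⟩ := IsPGroup.iff_card.1 hNp
          rw [hNc] at hj
          refine Nat.Coprime.coprime_dvd_left (m := (q + 1) / 2) (Nat.div_dvd_of_dvd ⟨(q+1)/2, by omega⟩) ?_
          rw [hj]
          exact Nat.Coprime.pow_left j ((Nat.coprime_two_left).2 hodd)
        exact orderOf_eq_one_iff.1 (Nat.dvd_one.1 (hcop ▸ Nat.dvd_gcd h1 h2))
      have := Nat.le_of_dvd two_pos (hy ▸ orderOf_dvd_of_pow_eq_one (hr2 ▸ hexp y hyN))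
      omega

/-- The identification. -/
theorem nonempty_mulEquiv {F : Type*} [Field F] [Fintype F] (hF : Fintype.card F = q) :
    Nonempty (G ≃* Matrix.ProjectiveSpecialLinearGroup (Fin 2) F) := by
  classical
  haveI := Fact.mk S.hp
  haveI := Fintype.ofFinite (Sylow p G)
  have hq := S.hq
  have hZ := S.isZassenhausGroup
  have C := Zassenhaus.zctx_of_zassenhaus hZ
  have h3 := Zassenhaus.three_le_of_zassenhaus hZ
  have hn : Nat.card (Sylow p G) = q + 1 :=
    (S.counts (Classical.arbitrary (Sylow p G))).1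
  obtain ⟨P, Q, hPQ⟩ : ∃ P Q : Sylow p G, P ≠ Q := Fintype.exists_pair_of_one_lt_card (by
    rw [← Nat.card_eq_fintype_card, hn]; omega)
  have hT := S.two_le_twoPt (Ne.symm hPQ)
  have hker : Zassenhaus.IsKernel (P : Subgroup G) P :=
    ⟨fun u hu => Sylow.smul_eq_iff_mem_normalizer.2 (le_normalizer hu),
      fun g hg u hu => (mem_normalizer_iff.1 (Sylow.smul_eq_iff_mem_normalizer.1 hg) u).1 hu,
      fun y z hy hz => S.regular P hy hz⟩
  rcases S.d_cases with ⟨-, hd1, hq2⟩ | ⟨-, hd2, hq2⟩
  · -- sharply triply transitive of odd degree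
    rw [hd1, one_mul] at hT
    have htr := C.three_transitive_of_full hPQ (by omega)
    obtain ⟨f, K, iK, iFK, -, hK, hcard, ⟨φ⟩, -⟩ := C.identify_even h3
      (by rw [hn, Nat.odd_iff]; omega)
      (fun h1 h2 h4 h1' h2' h4' => Zassenhaus.exists_map_three htr h1 h2 h4 h1' h2' h4')
    have hKq : Fintype.card K = Fintype.card F := by
      rw [hK, hF]; omega
    have h20 : (2 : K) = 0 := by
      by_contra h
      have h' := SL2Class.card_odd_of_two_ne_zero h
      rw [hKq, hF] at h'
      omega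
    obtain ⟨ψ⟩ := Cfsg.Agent.Classical.Small.psl_congr (n := 2) (FiniteField.ringEquivOfCardEq hKq)
    exact ⟨φ.trans ((MulEquiv.ofBijective (SL2Class.proj (F := K))
      ⟨(MonoidHom.ker_eq_bot_iff _).1 (by
        rw [SL2Class.proj, QuotientGroup.ker_mk', SL2Class.center_eq_bot h20]),
        SL2Class.proj_surjective⟩).trans ψ)⟩
  · subst hd2
    obtain ⟨hcomm, -⟩ := hker.elementary C hPQ h3 (by omega)
    rcases Zassenhaus.abelian_kernel_cases hZ hPQ hker (fun u hu v hv =>
      congrArg Subtype.val (hcomm.is_comm.comm (⟨u, hu⟩ : (P : Subgroup G)) ⟨v, hv⟩)) with h | ⟨-, p', f, K, iK, iFK, -, -, hK, hcard, ⟨φ⟩⟩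
    · omega
    · have hKq : Fintype.card K = Fintype.card F := by
        rw [hK, hF]; omega
      obtain ⟨ψ⟩ := Cfsg.Agent.Classical.Small.psl_congr (n := 2) (FiniteField.ringEquivOfCardEq hKq)
      exact ⟨φ.trans ψ⟩

end Spec

end Cfsg.Agent.RecogLin
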