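import Mathlib
import Cfsg.Agent.Fusion.Alperin
import Cfsg.Agent.OddLocal.CNTheorem

/-!
Finite groups with the order and the spectrum of `PSL(2, q)`: every element of order divisible by
`p` has order `p`, and two distinct Sylow `p`-subgroups meet trivially.
-/

set_option autoImplicit false
set_option linter.style.haveILetI false

namespace Cfsg.Agent.RecogLin

open Subgroup

variable {G : Type*} [Group G]

variable (G) in
/-- The numerical hypotheses: `G` has the order and the element orders of `PSL(2, q)`. -/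
structure Spec (p q d : ℕ) : Prop where
  hp : p.Prime
  hpq : ∃ f, 0 < f ∧ q = p ^ f
  hd : d = Nat.gcd 2 (q - 1)
  hq : 4 ≤ q
  card : d * Nat.card G = q * (q ^ 2 - 1)
  ord : ∀ g : G, orderOf g ∣ p ∨ orderOf g ∣ (q - 1) / d ∨ orderOf g ∣ (q + 1) / d
  exi : ∀ m, m ∣ (q - 1) / d ∨ m ∣ (q + 1) / d → ∃ g : G, orderOf g = m

/-- A norm argument: in a `p`-group of exponent `p` acted on by `R ⋊ ⟨x⟩`. -/
theorem pow_card_eq_one_of_norm {H V : Type*} [Group H] [CommGroup V] (φ : H →* MulAut V)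
    (R : Subgroup H) [Finite R] (p : ℕ) (hp : 0 < p) (x : H) (hxR : x ∈ normalizer (R : Set H))
    (hnorm : ∀ w : V, ∏ i ∈ Finset.range p, φ (x ^ i) w = 1)
    (hfix : ∀ w : V, (∀ c ∈ R, φ c w = w) → w = 1)
    (hfree : ∀ i, 0 < i → i < p → ∀ c ∈ R, c * x ^ i = x ^ i * c → c = 1) (v : V) :
    v ^ Nat.card R = 1 := by
  classical
  haveI := Fintype.ofFinite R
  have hinv : ∀ w : V, ∏ c : R, φ (c : H) w = 1 := by
    intro w
    refine hfix _ fun e he => ?_
    rw [map_prod]
    refine Fintype.prod_equiv (Equiv.mulLeft (⟨e, he⟩ : R)) _ _ fun c => ?_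
    simp only [Equiv.coe_mulLeft, Subgroup.coe_mul, map_mul, MulAut.mul_apply]
  have hsum : ∀ c : R, ∏ i ∈ Finset.range p, φ ((c : H) * x ^ i * (c : H)⁻¹) v = 1 := by
    intro c
    simp only [map_mul, MulAut.mul_apply]
    rw [← map_prod, hnorm, map_one]
  have htot : ∏ i ∈ Finset.range p, ∏ c : R, φ ((c : H) * x ^ i * (c : H)⁻¹) v = 1 := by
    rw [Finset.prod_comm]
    exact Finset.prod_eq_one fun c _ => hsum c
  have hpos : ∀ i, 0 < i → i < p → ∏ c : R, φ ((c : H) * x ^ i * (c : H)⁻¹) v = 1 := by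
    intro i hi hip
    have hxi : x ^ i ∈ normalizer (R : Set H) := pow_mem hxR i
    let ψ : R → R := fun c =>
      ⟨(c : H) * (x ^ i * (c : H)⁻¹ * (x ^ i)⁻¹),
        mul_mem c.2 ((mem_normalizer_iff.1 hxi _).1 (inv_mem c.2))⟩
    have hinj : Function.Injective ψ := by
      intro a b hab
      have e : (a : H) * (x ^ i * (a : H)⁻¹ * (x ^ i)⁻¹) =
          (b : H) * (x ^ i * (b : H)⁻¹ * (x ^ i)⁻¹) := congrArg Subtype.val hab
      have e' : (a : H) * x ^ i * (a : H)⁻¹ = (b : H) * x ^ i * (b : H)⁻¹ := by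
        calc (a : H) * x ^ i * (a : H)⁻¹
            = (a : H) * (x ^ i * (a : H)⁻¹ * (x ^ i)⁻¹) * x ^ i := by group
          _ = (b : H) * (x ^ i * (b : H)⁻¹ * (x ^ i)⁻¹) * x ^ i := by rw [e]
          _ = _ := by group
      have hc : ((b : H)⁻¹ * a) * x ^ i = x ^ i * ((b : H)⁻¹ * a) := by
        calc ((b : H)⁻¹ * a) * x ^ i = (b : H)⁻¹ * ((a : H) * x ^ i * (a : H)⁻¹) * a := by group
          _ = (b : H)⁻¹ * ((b : H) * x ^ i * (b : H)⁻¹) * a := by rw [e']
          _ = _ := by group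
      exact Subtype.ext (inv_mul_eq_one.1 (hfree i hi hip _ (mul_mem (inv_mem b.2) a.2) hc)).symm
    have hbij : Function.Bijective ψ := Finite.injective_iff_bijective.1 hinj
    calc ∏ c : R, φ ((c : H) * x ^ i * (c : H)⁻¹) v
        = ∏ c : R, φ (c : H) (φ (x ^ i) v) := by
          refine Fintype.prod_bijective ψ hbij _ _ fun c => ?_
          rw [← MulAut.mul_apply, ← map_mul]
          congr 2
          simp only [ψ]
          group
      _ = 1 := hinv _
  rw [Finset.prod_eq_single_of_mem 0 (Finset.mem_range.2 hp) fun i hi hi0 =>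
    hpos i (Nat.pos_of_ne_zero hi0) (Finset.mem_range.1 hi)] at htot
  simpa [← Nat.card_eq_fintype_card] using htot

namespace Spec

variable {p q d : ℕ} (S : Spec G p q d)
include S

theorem d_cases : (p = 2 ∧ d = 1 ∧ q % 2 = 0) ∨ (p ≠ 2 ∧ d = 2 ∧ q % 2 = 1) := by
  obtain ⟨f, hf, hqf⟩ := S.hpq
  have := S.hq
  rcases S.hp.eq_two_or_odd with h2 | h2
  · have hq2 : q % 2 = 0 := by
      rw [hqf, h2, ← Nat.succ_pred_eq_of_pos hf, pow_succ]; omega
    refine Or.inl ⟨h2, ?_, hq2⟩
    rw [S.hd]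
    exact Nat.prime_two.coprime_iff_not_dvd.2 (by omega)
  · have hq2 : q % 2 = 1 := by
      rw [hqf, Nat.pow_mod, h2, one_pow, Nat.one_mod]
    refine Or.inr ⟨by omega, ?_, hq2⟩
    rw [S.hd]
    exact Nat.gcd_eq_left (by omega)

theorem d_mul_sub : d * ((q - 1) / d) = q - 1 ∧ d * ((q + 1) / d) = q + 1 := by
  rcases S.d_cases with ⟨-, h, -⟩ | ⟨-, h, h'⟩ <;> subst h
  · simp
  · omega

theorem p_dvd_q : p ∣ q := by
  obtain ⟨f, hf, hqf⟩ := S.hpq
  exact hqf ▸ dvd_pow_self p hf.ne'

theorem not_dvd_sub : ¬ p ∣ (q - 1) / d := fun h => by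
  have h1 : p ∣ q - 1 := S.d_mul_sub.1 ▸ h.mul_left d
  have h2 := Nat.dvd_sub S.p_dvd_q h1
  rw [show q - (q - 1) = 1 by have := S.hq; omega, Nat.dvd_one] at h2
  exact S.hp.ne_one h2

theorem not_dvd_add : ¬ p ∣ (q + 1) / d := fun h => by
  have h1 : p ∣ q + 1 := S.d_mul_sub.2 ▸ h.mul_left d
  have h2 := (Nat.dvd_add_right S.p_dvd_q).1 h1
  exact S.hp.ne_one (Nat.dvd_one.1 h2)

theorem card_eq : Nat.card G = q * (d * ((q - 1) / d) * ((q + 1) / d)) := by
  obtain ⟨h1, h2⟩ := S.d_mul_sub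
  have hd0 : 0 < d := by rcases S.d_cases with ⟨-, h, -⟩ | ⟨-, h, -⟩ <;> omega
  refine Nat.eq_of_mul_eq_mul_left hd0 ?_
  rw [S.card, show q ^ 2 - 1 = (q + 1) * (q - 1) by simpa using Nat.sq_sub_sq q 1]
  conv_lhs => rw [← h1, ← h2]
  ring

theorem factorization_card [Fact p.Prime] : p ^ (Nat.card G).factorization p = q := by
  obtain ⟨f, hf, hqf⟩ := S.hpq
  have hd0 : ¬ p ∣ d := by
    rcases S.d_cases with ⟨h', h, -⟩ | ⟨h', h, -⟩
    · rw [h, Nat.dvd_one]; exact S.hp.ne_one
    · rw [h, Nat.prime_dvd_prime_iff_eq S.hp Nat.prime_two]; exact h'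
  have hnd : ¬ p ∣ d * ((q - 1) / d) * ((q + 1) / d) := fun h => by
    rcases (S.hp.dvd_mul.1 h) with h | h
    · rcases (S.hp.dvd_mul.1 h) with h | h
      · exact hd0 h
      · exact S.not_dvd_sub h
    · exact S.not_dvd_add h
  have hne : d * ((q - 1) / d) * ((q + 1) / d) ≠ 0 := fun h => hnd (h ▸ dvd_zero p)
  have hq0 : q ≠ 0 := by have := S.hq; omega
  rw [S.card_eq, Nat.factorization_mul hq0 hne, Finsupp.add_apply,
    Nat.factorization_eq_zero_of_not_dvd hnd, hqf, Nat.factorization_pow, Finsupp.smul_apply,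
    S.hp.factorization_self]
  simp

theorem card_sylow [Finite G] [Fact p.Prime] (P : Sylow p G) : Nat.card (P : Subgroup G) = q := by
  rw [P.card_eq_multiplicity, S.factorization_card]

/-- An element of order divisible by `p` has order `p`. -/
theorem pow_p {g : G} (h : p ∣ orderOf g) : g ^ p = 1 := by
  rcases S.ord g with h' | h' | h'
  · exact orderOf_dvd_iff_pow_eq_one.1 h'
  · exact absurd (h.trans h') S.not_dvd_sub
  · exact absurd (h.trans h') S.not_dvd_add

theorem pow_p_of_mem {H : Subgroup G} (hH : IsPGroup p H) {u : G} (hu : u ∈ H) : u ^ p = 1 := by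
  obtain ⟨k, hk⟩ := hH ⟨u, hu⟩
  have hk' : u ^ p ^ k = 1 := congrArg Subtype.val hk
  obtain ⟨j, -, hj⟩ := (Nat.dvd_prime_pow S.hp).1 (orderOf_dvd_of_pow_eq_one hk')
  rcases Nat.eq_zero_or_pos j with rfl | hj0
  · rw [pow_zero] at hj
    rw [orderOf_eq_one_iff.1 hj, one_pow]
  · exact S.pow_p (hj ▸ dvd_pow_self p hj0.ne')

/-- Whatever commutes with a non-trivial `p`-element is a `p`-element. -/
theorem pow_p_of_commute {x g : G} (hx : x ^ p = 1) (hx1 : x ≠ 1) (hc : x * g = g * x) :
    g ^ p = 1 := by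
  haveI := Fact.mk S.hp
  by_cases hg : p ∣ orderOf g
  · exact S.pow_p hg
  have hox : orderOf x = p := orderOf_eq_prime hx hx1
  have ho := Commute.orderOf_mul_eq_mul_orderOf_of_coprime (show Commute x g from hc)
    (hox ▸ (S.hp.coprime_iff_not_dvd.2 hg))
  have h1 : orderOf (x * g) ∣ p :=
    orderOf_dvd_of_pow_eq_one (S.pow_p (by rw [ho, hox]; exact dvd_mul_right p _))
  rw [ho, hox] at h1
  have h2 : orderOf g = 1 :=
    Nat.dvd_one.1 (Nat.dvd_of_mul_dvd_mul_left S.hp.pos (by rwa [mul_one]))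
  rw [orderOf_eq_one_iff.1 h2, one_pow]

theorem isPGroup_centralizer {H : Subgroup G} {x : G} (hx : x ^ p = 1) (hx1 : x ≠ 1)
    (hH : ∀ g ∈ H, x * g = g * x) : IsPGroup p H :=
  fun g => ⟨1, Subtype.ext (by simpa using S.pow_p_of_commute hx hx1 (hH g g.2))⟩

/-- In odd characteristic, two elements of odd order centralising an element of odd prime order
`r ≠ p` commute. -/
theorem comm_of_odd [Finite G] (hp2 : p ≠ 2) {z : G} {r : ℕ} [Fact r.Prime] (hr2 : r ≠ 2)
    (hrp : r ≠ p) (hz : orderOf z = r) {g h : G} (hg : z * g = g * z) (hh : z * h = h * z)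
    (hgo : Odd (orderOf g)) (hho : Odd (orderOf h)) : g * h = h * g := by
  have hrP := (Fact.out : r.Prime)
  obtain ⟨-, hd2, hqodd⟩ := S.d_cases.resolve_left fun h => hp2 h.1
  subst hd2
  have hq := S.hq
  -- the torus order divisible by `r`
  obtain ⟨m, m', hrm, hcop, hmm, hcase, hex⟩ : ∃ m m', r ∣ m ∧ Nat.Coprime m m' ∧
      Nat.card G = m * 2 * (q * m') ∧ (∀ g : G, orderOf g ∣ p ∨ orderOf g ∣ m ∨ orderOf g ∣ m') ∧
      ∃ y : G, orderOf y = m := by
    have hco : Nat.Coprime ((q - 1) / 2) ((q + 1) / 2) := by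
      rw [show (q + 1) / 2 = (q - 1) / 2 + 1 by omega]
      simp
    rcases S.ord z with h' | h' | h'
    · exact absurd ((Nat.prime_dvd_prime_iff_eq hrP S.hp).1 (hz ▸ h')) hrp
    · exact ⟨(q - 1) / 2, (q + 1) / 2, hz ▸ h', hco, by rw [S.card_eq]; ring, S.ord,
        S.exi _ (Or.inl dvd_rfl)⟩
    · exact ⟨(q + 1) / 2, (q - 1) / 2, hz ▸ h', hco.symm, by rw [S.card_eq]; ring,
        fun g => (S.ord g).imp id Or.symm, S.exi _ (Or.inr dvd_rfl)⟩
  obtain ⟨y, hy⟩ := hex
  have hrq : ¬ r ∣ q := fun h' => by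
    obtain ⟨f, -, hqf⟩ := S.hpq
    exact hrp ((Nat.prime_dvd_prime_iff_eq hrP S.hp).1 (hrP.dvd_of_dvd_pow (hqf ▸ h')))
  have hrm' : ¬ r ∣ m' := fun h' => hrP.ne_one (Nat.dvd_one.1 (hcop ▸ Nat.dvd_gcd hrm h'))
  have hm0 : m ≠ 0 := fun h0 => by
    rw [h0] at hmm
    simp [Nat.card_pos.ne'] at hmm
  -- the centraliser of `z` has exponent dividing `m`
  set C := centralizer ({z} : Set G) with hC
  have hexp : ∀ c ∈ C, orderOf c ∣ m := by
    intro c hc
    rw [hC, mem_centralizer_singleton_iff] at hc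
    have key : ∀ u : G, r ∣ orderOf u → orderOf u ∣ m := fun u hu => by
      rcases hcase u with h' | h' | h'
      · exact absurd ((Nat.prime_dvd_prime_iff_eq hrP S.hp).1 (hu.trans h')) hrp
      · exact h'
      · exact absurd (hu.trans h') hrm'
    by_cases hrc : r ∣ orderOf c
    · exact key c hrc
    have ho := Commute.orderOf_mul_eq_mul_orderOf_of_coprime (show Commute z c from hc.symm)
      (hz ▸ hrP.coprime_iff_not_dvd.2 hrc)
    have := key (z * c) (by rw [ho, hz]; exact dvd_mul_right r _)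
    exact (ho ▸ dvd_mul_left (orderOf c) (orderOf z)).trans this
  have hpm : ¬ p ∣ m := by
    intro h'
    rcases S.ord y with h'' | h'' | h''
    · rw [hy] at h''
      exact hrp ((Nat.prime_dvd_prime_iff_eq hrP S.hp).1 (hrm.trans h''))
    · exact S.not_dvd_sub ((h'.trans (hy ▸ h'')))
    · exact S.not_dvd_add ((h'.trans (hy ▸ h'')))
  have hCdvd : Nat.card C ∣ m * 2 := by
    have hc : Nat.Coprime (Nat.card C) (q * m') := by
      refine Nat.coprime_of_dvd fun s hs hsC hsq => ?_
      haveI := Fact.mk hs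
      obtain ⟨c, hc⟩ := exists_prime_orderOf_dvd_card' s hsC
      have hsm : s ∣ m := by
        have h' := hexp c c.2
        rwa [Subgroup.orderOf_coe, hc] at h'
      rcases hs.dvd_mul.1 hsq with h' | h'
      · obtain ⟨f, -, hqf⟩ := S.hpq
        exact hpm ((Nat.prime_dvd_prime_iff_eq hs S.hp).1 (hs.dvd_of_dvd_pow (hqf ▸ h')) ▸ hsm)
      · exact hs.ne_one (Nat.dvd_one.1 (hcop ▸ Nat.dvd_gcd hsm h'))
    exact hc.dvd_of_dvd_mul_right (hmm ▸ card_subgroup_dvd_card C)
  -- a cyclic subgroup of order `m` through `z`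
  obtain ⟨Y, hYc, hYcard, hzY⟩ : ∃ Y : Subgroup G, IsCyclic Y ∧ Nat.card Y = m ∧ z ∈ Y := by
    set a := (Nat.card G).factorization r with ha
    have hra : r ^ a ∣ m := by
      have h1 : r ^ a ∣ m * (2 * (q * m')) := by
        rw [← mul_assoc, ← hmm]; exact Nat.ordProj_dvd _ _
      refine (Nat.Coprime.dvd_of_dvd_mul_right (Nat.Coprime.pow_left a ?_) h1)
      rw [hrP.coprime_iff_not_dvd, hrP.dvd_mul, hrP.dvd_mul]
      rintro (h' | h' | h')
      · exact hr2 ((Nat.prime_dvd_prime_iff_eq hrP Nat.prime_two).1 h')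
      · exact hrq h'
      · exact hrm' h'
    obtain ⟨j, hj⟩ := hra
    have hyj : orderOf (y ^ j) = r ^ a := by
      have hjm : j ∣ orderOf y := hy ▸ ⟨r ^ a, by rw [hj]; ring⟩
      rw [orderOf_pow_of_dvd (fun h0 => hm0 (by rw [hj, h0, mul_zero])) hjm, hy, hj,
        Nat.mul_div_cancel _ (Nat.pos_of_ne_zero fun h0 => hm0 (by rw [hj, h0, mul_zero]))]
    let R : Sylow r G := Sylow.ofCard (zpowers (y ^ j)) (by rw [Nat.card_zpowers, hyj])
    have hzp : IsPGroup r (zpowers z) :=
      IsPGroup.iff_card.2 ⟨1, by rw [Nat.card_zpowers, hz, pow_one]⟩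
    obtain ⟨R', hR'⟩ := hzp.exists_le_sylow
    obtain ⟨w, hw⟩ := MulAction.exists_smul_eq G R R'
    refine ⟨zpowers (w * y * w⁻¹), isCyclic_zpowers _, ?_, ?_⟩
    · rw [Nat.card_zpowers, ← hy]
      exact MulEquiv.orderOf_eq (MulAut.conj w) y
    · have h1 : z ∈ (R' : Subgroup G) := hR' (mem_zpowers z)
      rw [← hw, Sylow.coe_subgroup_smul, mem_pointwise_smul_iff_inv_smul_mem] at h1
      change (MulAut.conj w)⁻¹ • z ∈ zpowers (y ^ j) at h1
      obtain ⟨k, hk⟩ := mem_zpowers_iff.1 h1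
      refine mem_zpowers_iff.2 ⟨(j : ℤ) * k, ?_⟩
      rw [conj_zpow, zpow_mul, zpow_natCast, hk]
      simp [MulAut.smul_def, mul_assoc]
  have hYC : Y ≤ C := fun u hu => by
    rw [hC, mem_centralizer_singleton_iff]
    haveI := hYc
    exact congrArg Subtype.val (IsCyclic.commGroup.mul_comm (⟨u, hu⟩ : Y) ⟨z, hzY⟩)
  have hsq : ∀ c ∈ C, c ^ 2 ∈ Y := by
    intro c hc
    have h1 := Subgroup.card_mul_index (Y.subgroupOf C)
    rw [Nat.card_congr (subgroupOfEquivOfLe hYC).toEquiv, hYcard] at h1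
    have h2 : (Y.subgroupOf C).index ∣ 2 :=
      Nat.dvd_of_mul_dvd_mul_left (Nat.pos_of_ne_zero hm0) (h1 ▸ hCdvd)
    rcases (Nat.dvd_prime Nat.prime_two).1 h2 with h3 | h3
    · exact pow_mem (Subgroup.subgroupOf_eq_top.1 (index_eq_one.1 h3) hc) 2
    · simpa [mem_subgroupOf] using sq_mem_of_index_two h3 (⟨c, hc⟩ : C)
  have hmemY : ∀ c : G, z * c = c * z → Odd (orderOf c) → c ∈ Y := by
    intro c hc hco
    obtain ⟨k, hk⟩ := hco
    have h2 : c = (c ^ 2) ^ (k + 1) := by
      rw [← pow_mul, show 2 * (k + 1) = orderOf c + 1 by omega, pow_succ, pow_orderOf_eq_one,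
        one_mul]
    rw [h2]
    exact pow_mem (hsq c (by rw [hC, mem_centralizer_singleton_iff]; exact hc.symm)) _
  haveI := hYc
  exact congrArg Subtype.val
    (IsCyclic.commGroup.mul_comm (⟨g, hmemY g hg hgo⟩ : Y) ⟨h, hmemY h hh hho⟩)

/-- A subgroup of odd order is a CN-group. -/
theorem isCNGroup_odd [Finite G] (hp2 : p ≠ 2) (N : Subgroup G) (hN : Odd (Nat.card N)) :
    Cfsg.IsCNGroup N := by
  intro g hg
  haveI := Fact.mk S.hp
  by_cases hpg : p ∣ orderOf g
  · have hC : IsPGroup p (centralizer ({g} : Set N)) := fun c => ⟨1, by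
      have hc := mem_centralizer_singleton_iff.1 c.2
      refine Subtype.ext (Subtype.ext ?_)
      simpa using S.pow_p_of_commute (x := (g : G)) (S.pow_p (by rwa [Subgroup.orderOf_coe]))
        (fun e => hg (Subtype.ext e)) (congrArg Subtype.val hc.symm)⟩
    exact hC.isNilpotent
  · have hodd : ∀ u : N, Odd (orderOf u) := fun u => hN.of_dvd_nat (_root_.orderOf_dvd_natCard u)
    have h1 : orderOf g ≠ 1 := fun e => hg (orderOf_eq_one_iff.1 e)
    obtain ⟨r, hr, hrg⟩ := Nat.exists_prime_and_dvd h1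
    haveI := Fact.mk hr
    have hr2 : r ≠ 2 := fun e => by
      obtain ⟨k, hk⟩ := (hodd g).of_dvd_nat hrg
      omega
    have hrp : r ≠ p := fun e => hpg (e ▸ hrg)
    have hz : orderOf (((g ^ (orderOf g / r) : N) : G)) = r := by
      rw [Subgroup.orderOf_coe, orderOf_pow_orderOf_div (orderOf_pos g).ne' hrg]
    letI : CommGroup (centralizer ({g} : Set N)) :=
      { (inferInstance : Group (centralizer ({g} : Set N))) with
        mul_comm := fun a b => by
          have hcomm : ∀ c : centralizer ({g} : Set N),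
              (((g ^ (orderOf g / r) : N)) : G) * ((c : N) : G) =
                ((c : N) : G) * (((g ^ (orderOf g / r) : N)) : G) := fun c =>
            congrArg Subtype.val
              ((show Commute g (c : N) from (mem_centralizer_singleton_iff.1 c.2).symm).pow_left _).eq
          refine Subtype.ext (Subtype.ext ?_)
          exact S.comm_of_odd hp2 hr2 hrp hz (hcomm a) (hcomm b)
            (by rw [Subgroup.orderOf_coe]; exact hodd _)
            (by rw [Subgroup.orderOf_coe]; exact hodd _) }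
    exact CommGroup.isNilpotent

/-- The normaliser of a non-trivial `p`-subgroup, in odd characteristic, has its `p`-elements in
one `p`-subgroup. -/
theorem exists_closed [Finite G] (hp2 : p ≠ 2) (D : Subgroup G) (hD : IsPGroup p D) (hD1 : D ≠ ⊥) :
    ∃ C : Subgroup G, IsPGroup p C ∧ ∀ g ∈ normalizer (D : Set G), g ^ p = 1 → g ∈ C := by
  haveI := Fact.mk S.hp
  obtain ⟨d₀, hd₀D, hd₀1⟩ := D.bot_or_exists_ne_one.resolve_left hD1
  have hd₀ := S.pow_p_of_mem hD hd₀D
  rcases Nat.even_or_odd (Nat.card (normalizer (D : Set G))) with hev | hod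
  · -- an involution inverts `D`
    haveI : Fact (Nat.Prime 2) := ⟨Nat.prime_two⟩
    obtain ⟨t, ht⟩ := exists_prime_orderOf_dvd_card'
      (G := normalizer (D : Set G)) 2 hev.two_dvd
    have ht2 : ((t : G)) * t = 1 := by
      have h' := pow_orderOf_eq_one t
      rw [ht, pow_two] at h'
      exact congrArg Subtype.val h'
    have htne : (t : G) ≠ 1 := fun e => by
      rw [show t = 1 from Subtype.ext e, orderOf_one] at ht
      omega
    have hti : (t : G)⁻¹ = t := inv_eq_of_mul_eq_one_right ht2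
    have hfpf : ∀ x : G, x ^ p = 1 → x ≠ 1 → (t : G) * x ≠ x * t := fun x hx hx1 hc => by
      have h1 := S.pow_p_of_commute hx hx1 hc.symm
      obtain ⟨k, hk⟩ := S.hp.odd_of_ne_two hp2
      rw [hk, pow_add, pow_mul, pow_one, pow_two, ht2, one_pow, one_mul] at h1
      exact htne h1
    have hinv : ∀ u ∈ D, (t : G) * u * t = u⁻¹ := by
      let σ : MulAut D := D.normalizerMonoidHom t
      have hσ : ∀ u : D, ((σ u : D) : G) = t * u * (t : G)⁻¹ := fun u => rfl
      have hfix : MonoidHom.FixedPointFree (σ : D → D) := fun u hu => by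
        by_contra hu1
        refine hfpf u (S.pow_p_of_mem hD u.2) (fun e => hu1 (Subtype.ext e)) ?_
        have := congrArg Subtype.val hu
        rw [hσ] at this
        exact mul_inv_eq_iff_eq_mul.1 this
      have hsq : Function.Involutive (σ : D → D) := fun u => Subtype.ext (by
        rw [hσ, hσ, hti, show (t : G) * (t * u * t) * t = ((t : G) * t) * u * (t * t) by group, ht2]
        group)
      intro u hu
      have h' := congrArg Subtype.val
        (congrFun (hfix.coe_eq_inv_of_involutive hsq) ⟨u, hu⟩)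
      rw [hσ, hti] at h'
      exact h'
    set C := centralizer (D : Set G) with hC
    have hCp : IsPGroup p C :=
      S.isPGroup_centralizer hd₀ hd₀1 fun g hg => mem_centralizer_iff.1 hg d₀ hd₀D
    refine ⟨C, hCp, fun g hg hgp => ?_⟩
    set u := (t : G) * (g * t * g⁻¹) with hu
    have huC : u ∈ C := by
      rw [hC, mem_centralizer_iff]
      intro a ha
      have h1 : g⁻¹ * a * g ∈ D := by
        have := (mem_normalizer_iff.1 (inv_mem hg) a).1 ha
        simpa using this
      have h2 : g * t * g⁻¹ * a * (g * t * g⁻¹) = a⁻¹ := by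
        calc g * t * g⁻¹ * a * (g * t * g⁻¹) = g * ((t : G) * (g⁻¹ * a * g) * t) * g⁻¹ := by group
          _ = g * (g⁻¹ * a * g)⁻¹ * g⁻¹ := by rw [hinv _ h1]
          _ = _ := by group
      have hgi : (g * t * g⁻¹)⁻¹ = g * t * g⁻¹ := by
        rw [mul_inv_rev, mul_inv_rev, inv_inv, hti, mul_assoc]
      have hui : u⁻¹ = g * t * g⁻¹ * t := by rw [hu, mul_inv_rev, hgi, hti]
      have h3 : u * a * u⁻¹ = a := by
        calc u * a * u⁻¹ = (t : G) * (g * t * g⁻¹ * a * (g * t * g⁻¹)) * t := by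
              rw [hui, hu]; group
          _ = (t : G) * a⁻¹ * t := by rw [h2]
          _ = a := by rw [hinv _ (inv_mem ha), inv_inv]
      exact (mul_inv_eq_iff_eq_mul.1 h3).symm
    have htut : (t : G) * u * t = u⁻¹ := by
      rw [hu, mul_inv_rev, mul_inv_rev, mul_inv_rev, inv_inv, hti, ← mul_assoc (t : G) t, ht2]
      group
    obtain ⟨k, hk⟩ := S.hp.odd_of_ne_two hp2
    set v := u ^ (k + 1) with hv
    have hup := S.pow_p_of_mem hCp huC
    have hvv : v * v = u := by
      rw [hv, ← pow_add, show k + 1 + (k + 1) = p + 1 by omega, pow_succ, hup, one_mul]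
    have htvt : (t : G) * v * t = v⁻¹ := by
      have h' : (t : G) * v * (t : G)⁻¹ = ((t : G) * u * (t : G)⁻¹) ^ (k + 1) := by
        rw [hv, conj_pow]
      rwa [hti, htut, inv_pow, ← hv] at h'
    have hgt : g * t * g⁻¹ = t * u := by rw [hu, ← mul_assoc, ht2, one_mul]
    have hcomm : (t : G) * (v * g) = v * g * t := by
      refine (mul_inv_eq_iff_eq_mul.1 ?_).symm
      calc v * g * t * (v * g)⁻¹ = v * (g * t * g⁻¹) * v⁻¹ := by group
        _ = v * ((t : G) * (v * v)) * v⁻¹ := by rw [hgt, hvv]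
        _ = v * ((t : G) * v * t) * t := by
          rw [show v * ((t : G) * v * t) * t = v * ((t : G) * v * (t * t)) by group, ht2]; group
        _ = t := by rw [htvt]; group
    have hy : v * g = 1 := by
      by_contra hne
      have hgC : zpowers g ≤ normalizer (C : Set G) := by
        rw [zpowers_le, mem_normalizer_iff]
        intro c
        simp only [hC, mem_centralizer_iff]
        constructor
        · intro h' a ha
          have := h' _ ((mem_normalizer_iff.1 (inv_mem hg) a).1 ha)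
          simp only [inv_inv] at this
          calc a * (g * c * g⁻¹) = g * ((g⁻¹ * a * g) * c) * g⁻¹ := by group
            _ = g * (c * (g⁻¹ * a * g)) * g⁻¹ := by rw [this]
            _ = _ := by group
        · intro h' a ha
          have := h' _ ((mem_normalizer_iff.1 hg a).1 ha)
          calc a * c = g⁻¹ * ((g * a * g⁻¹) * (g * c * g⁻¹)) * g := by group
            _ = g⁻¹ * ((g * c * g⁻¹) * (g * a * g⁻¹)) * g := by rw [this]
            _ = _ := by group
      have hgp' : IsPGroup p (zpowers g) := fun ⟨w, hw⟩ => by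
        obtain ⟨i, rfl⟩ := mem_zpowers_iff.1 hw
        exact ⟨1, Subtype.ext (by
          simp only [pow_one, SubmonoidClass.mk_pow, Subgroup.coe_one]
          rw [← zpow_natCast, ← zpow_mul, mul_comm, zpow_mul, zpow_natCast, hgp, one_zpow])⟩
      have hmem : v * g ∈ zpowers g ⊔ C :=
        mul_mem (mem_sup_right (hv ▸ pow_mem huC _)) (mem_sup_left (mem_zpowers g))
      exact hfpf _ (S.pow_p_of_mem (hgp'.to_sup_of_normal_right' hCp hgC) hmem) hne hcomm
    rw [eq_inv_of_mul_eq_one_right hy]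
    exact inv_mem (hv ▸ pow_mem huC _)
  · -- odd normaliser: solvable
    set N := normalizer (D : Set G) with hNdef
    haveI : Group.IsSolvable N :=
      OddLocal.CN.isSolvable_of_isCNGroup _ N rfl hod (S.isCNGroup_odd hp2 N hod)
    obtain ⟨E, hE⟩ := (Set.toFinite {E : Subgroup N | E.Normal ∧ IsPGroup p E}).exists_maximal
      ⟨⊥, inferInstance, IsPGroup.of_bot⟩
    obtain ⟨⟨hEn, hEp⟩, hEmax⟩ := hE
    haveI := hEn
    by_cases hall : ∀ g : N, (g : G) ^ p = 1 → g ∈ E
    · exact ⟨E.map N.subtype, hEp.map _, fun g hg hgp => ⟨⟨g, hg⟩, hall ⟨g, hg⟩ hgp, rfl⟩⟩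
    exfalso
    push Not at hall
    obtain ⟨x, hxp, hxE⟩ := hall
    let Q := N ⧸ E
    let π : N →* Q := QuotientGroup.mk' E
    haveI : Nontrivial Q := ⟨π x, 1, fun e => hxE ((QuotientGroup.eq_one_iff x).1 e)⟩
    obtain ⟨n, hn, hn'⟩ : ∃ n, derivedSeries Q n ≠ ⊥ ∧ derivedSeries Q (n + 1) = ⊥ := by
      obtain ⟨k, hk⟩ := (Group.isSolvable_def Q).1 inferInstance
      classical
      have hmin := Nat.find_spec (⟨k, hk⟩ : ∃ k, derivedSeries Q k = ⊥)
      set k₀ := Nat.find (⟨k, hk⟩ : ∃ k, derivedSeries Q k = ⊥) with hk₀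
      rcases Nat.eq_zero_or_pos k₀ with h0 | h0
      · rw [h0, derivedSeries_zero] at hmin
        exact absurd hmin top_ne_bot
      · exact ⟨k₀ - 1, Nat.find_min (⟨k, hk⟩ : ∃ k, derivedSeries Q k = ⊥) (by omega),
          by rwa [Nat.sub_add_cancel h0]⟩
    set A := derivedSeries Q n with hA
    have hAc : ∀ a ∈ A, ∀ b ∈ A, a * b = b * a := fun a ha b hb => by
      have h' := commutator_mem_commutator ha hb
      rw [← derivedSeries_succ, hn', mem_bot, commutatorElement_eq_one_iff_mul_comm] at h'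
      exact h'
    haveI hAn : A.Normal := derivedSeries_normal Q n
    have hpA : ¬ p ∣ Nat.card A := by
      intro hdvd
      obtain ⟨a, ha⟩ := exists_prime_orderOf_dvd_card' p hdvd
      let B : Subgroup Q :=
        { carrier := {b | b ∈ A ∧ b ^ p = 1}
          one_mem' := ⟨one_mem A, one_pow p⟩
          mul_mem' := fun {u v} hu hv => ⟨mul_mem hu.1 hv.1, by
            rw [Commute.mul_pow (hAc u hu.1 v hv.1), hu.2, hv.2, one_mul]⟩
          inv_mem' := fun {u} hu => ⟨inv_mem hu.1, by rw [inv_pow, hu.2, inv_one]⟩ }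
      haveI : B.Normal := ⟨fun b hb g => ⟨hAn.conj_mem b hb.1 g, by
        rw [conj_pow, hb.2]; group⟩⟩
      have hBp : IsPGroup p B := fun b => ⟨1, Subtype.ext (by simpa using b.2.2)⟩
      have hker : IsPGroup p π.ker := by rw [QuotientGroup.ker_mk']; exact hEp
      have hle : E ≤ B.comap π := fun e he => by
        rw [mem_comap, show π e = 1 from (QuotientGroup.eq_one_iff e).2 he]
        exact one_mem B
      have hge := hEmax ⟨inferInstance, hBp.comap_of_ker_isPGroup π hker⟩ hle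
      obtain ⟨a', ha'⟩ := QuotientGroup.mk'_surjective E (a : Q)
      have : a' ∈ B.comap π := by
        rw [mem_comap]
        show π a' ∈ B
        rw [show π a' = (a : Q) from ha']
        exact ⟨a.2, by simpa [ha] using congrArg Subtype.val (pow_orderOf_eq_one a)⟩
      have h1 : (a : Q) = 1 := ha' ▸ (QuotientGroup.eq_one_iff a').2 (hge this)
      rw [show a = 1 from Subtype.ext h1, orderOf_one] at ha
      exact S.hp.ne_one ha.symm
    obtain ⟨r, hr, hrA⟩ := Nat.exists_prime_and_dvd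
      (fun h => hn (card_eq_one.1 h) : Nat.card A ≠ 1)
    haveI := Fact.mk hr
    have hrp : r ≠ p := fun e => hpA (e ▸ hrA)
    let L : Subgroup N := A.comap π
    haveI : L.Normal := hAn.comap π
    obtain ⟨R⟩ := (inferInstance : Nonempty (Sylow r L))
    set R₀ : Subgroup N := (R : Subgroup L).map L.subtype with hR₀
    have hR0 : IsPGroup r R₀ := R.2.map _
    have hR1 : R₀ ≠ ⊥ := fun e => by
      rw [hR₀, map_eq_bot_iff_of_injective _ L.subtype_injective] at e
      refine R.ne_bot_of_dvd_card ?_ e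
      refine hrA.trans ?_
      exact card_dvd_of_surjective
        ((π.comp L.subtype).codRestrict A fun l => mem_comap.1 l.2) fun a => by
        obtain ⟨w, hw⟩ := QuotientGroup.mk'_surjective E (a : Q)
        exact ⟨⟨w, mem_comap.2 (show π w ∈ A by rw [show π w = (a : Q) from hw]; exact a.2)⟩,
          Subtype.ext hw⟩
    -- an element of order `p` normalising `R₀`
    obtain ⟨y, hyN, hyp, hyE⟩ : ∃ y : N, y ∈ normalizer (R₀ : Set N) ∧ (y : G) ^ p = 1 ∧ y ∉ E := by
      have hmem : x ∈ normalizer (R₀ : Set N) ⊔ L := by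
        rw [hR₀, Sylow.normalizer_sup_eq_top R]; exact mem_top x
      obtain ⟨y, hy, l, hl, hyl⟩ := mem_sup_of_normal_right.1 hmem
      have hlA : π l ∈ A := mem_comap.1 hl
      have hpy : p ∣ orderOf (π y) := by
        by_contra hnd
        have h2 : π x ^ orderOf (π y) ∈ A := by
          have e : ((π x : Q) : Q ⧸ A) = ((π y : Q) : Q ⧸ A) := by
            rw [← hyl, map_mul, QuotientGroup.mk_mul, (QuotientGroup.eq_one_iff (π l)).2 hlA,
              mul_one]
          rw [← QuotientGroup.eq_one_iff, QuotientGroup.mk_pow, e, ← QuotientGroup.mk_pow,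
            pow_orderOf_eq_one, QuotientGroup.mk_one]
        have h3 : π x ^ (orderOf (π y) * Nat.card A) = 1 := by
          rw [pow_mul]
          exact congrArg Subtype.val (pow_card_eq_one' (x := (⟨_, h2⟩ : A)))
        have h4 : π x ^ p = 1 := by
          rw [← map_pow, show x ^ p = 1 from Subtype.ext (by simpa using hxp), map_one]
        have h5 := pow_gcd_eq_one.2 ⟨h3, h4⟩
        rw [show Nat.gcd (orderOf (π y) * Nat.card A) p = 1 from Nat.Coprime.mul_left
          ((S.hp.coprime_iff_not_dvd.2 hnd).symm) ((S.hp.coprime_iff_not_dvd.2 hpA).symm),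
          pow_one] at h5
        exact hxE ((QuotientGroup.eq_one_iff x).1 h5)
      refine ⟨y, hy, S.pow_p ?_, fun hyE => ?_⟩
      · rw [Subgroup.orderOf_coe]
        exact hpy.trans (orderOf_map_dvd π y)
      · rw [show π y = 1 from (QuotientGroup.eq_one_iff y).2 hyE, orderOf_one] at hpy
        exact S.hp.ne_one (Nat.dvd_one.1 hpy)
    have hy1 : (y : G) ≠ 1 := fun e => hyE ((show y = 1 from Subtype.ext e) ▸ one_mem E)
    -- the centre of `D`
    set V := (center D).map D.subtype with hV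
    have hVD : V ≤ D := map_subtype_le _
    have hVc : ∀ a ∈ V, ∀ b ∈ V, a * b = b * a := by
      rintro _ ⟨a, ha, rfl⟩ _ ⟨b, -, rfl⟩
      exact (congrArg Subtype.val (mem_center_iff.1 ha b)).symm
    have hV1 : V ≠ ⊥ := fun e => by
      rw [hV, map_eq_bot_iff_of_injective _ D.subtype_injective] at e
      haveI : Nontrivial D := (Subgroup.nontrivial_iff_ne_bot D).2 hD1
      exact ((Subgroup.nontrivial_iff_ne_bot _).1 hD.center_nontrivial) e
    have hNV : ∀ g : N, (g : G) ∈ normalizer (V : Set G) := by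
      intro g
      have key : ∀ g' ∈ N, ∀ a ∈ V, g' * a * g'⁻¹ ∈ V := by
        rintro g' hg' _ ⟨a, ha, rfl⟩
        refine ⟨D.normalizerMonoidHom ⟨g', hg'⟩ a, ?_, rfl⟩
        have hch : (center D).Characteristic := inferInstance
        have := hch.fixed (D.normalizerMonoidHom ⟨g', hg'⟩)
        rw [← this] at ha
        exact ha
      rw [mem_normalizer_iff]
      refine fun a => ⟨key g g.2 a, fun h' => ?_⟩
      simpa [mul_assoc] using key _ (inv_mem g.2) _ h'
    letI : CommGroup V := { (inferInstance : Group V) with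
      mul_comm := fun a b => Subtype.ext (hVc a a.2 b b.2) }
    let φ : N →* MulAut V :=
      V.normalizerMonoidHom.comp (N.subtype.codRestrict _ fun g => hNV g)
    have hφ : ∀ (g : N) (w : V), ((φ g w : V) : G) = (g : G) * w * (g : G)⁻¹ := fun g w => rfl
    have hVp : ∀ w : V, (w : G) ^ p = 1 := fun w => S.pow_p_of_mem hD (hVD w.2)
    -- in the `p`-group `V⟨y⟩` the element `w y` has order dividing `p`
    have hprod : ∀ (w : V) (k : ℕ),
        ((w : G) * y) ^ k = ((∏ i ∈ Finset.range k, φ (y ^ i) w : V) : G) * (y : G) ^ k := by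
      intro w k
      induction k with
      | zero => simp
      | succ k ih =>
        rw [Finset.prod_range_succ, pow_succ, ih, Subgroup.coe_mul, hφ,
          SubmonoidClass.coe_pow, pow_succ (y : G)]
        group
    have hnorm : ∀ w : V, ∏ i ∈ Finset.range p, φ (y ^ i) w = 1 := by
      intro w
      have hVP : IsPGroup p V := hD.to_le hVD
      have hyP : IsPGroup p (zpowers (y : G)) := IsPGroup.iff_card.2 ⟨1, by
        rw [Nat.card_zpowers, orderOf_eq_prime hyp hy1, pow_one]⟩
      have hle : zpowers (y : G) ≤ normalizer (V : Set G) := zpowers_le.2 (hNV y)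
      have h1 := S.pow_p_of_mem (hyP.to_sup_of_normal_right' hVP hle)
        (mul_mem (mem_sup_right w.2) (mem_sup_left (mem_zpowers (y : G))) :
          (w : G) * y ∈ zpowers (y : G) ⊔ V)
      rw [hprod, hyp, mul_one] at h1
      exact Subtype.ext h1
    have hfix : ∀ w : V, (∀ c ∈ R₀, φ c w = w) → w = 1 := by
      intro w hw
      by_contra hw1
      obtain ⟨c, hc, hc1⟩ := R₀.bot_or_exists_ne_one.resolve_left hR1
      have h1 := congrArg Subtype.val (hw c hc)
      rw [hφ] at h1
      have h2 := S.pow_p_of_commute (g := ((c : N) : G)) (hVp w)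
        (fun e => hw1 (Subtype.ext e)) (mul_inv_eq_iff_eq_mul.1 h1).symm
      obtain ⟨k, hk⟩ := hR0 ⟨c, hc⟩
      have h3 : c ^ r ^ k = 1 := congrArg Subtype.val hk
      have h4 : c ^ p = 1 := Subtype.ext (by simpa using h2)
      have := pow_gcd_eq_one.2 ⟨h3, h4⟩
      rw [show Nat.gcd (r ^ k) p = 1 from
        Nat.Coprime.pow_left k ((Nat.coprime_primes hr S.hp).2 hrp), pow_one] at this
      exact hc1 this
    have hfree : ∀ i, 0 < i → i < p → ∀ c ∈ R₀, c * y ^ i = y ^ i * c → c = 1 := by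
      intro i hi hip c hc hcomm
      have hyi1 : (y : G) ^ i ≠ 1 := fun e => by
        have := orderOf_dvd_of_pow_eq_one e
        rw [orderOf_eq_prime hyp hy1] at this
        exact absurd (Nat.le_of_dvd hi this) (by omega)
      have h2 := S.pow_p_of_commute (x := (y : G) ^ i) (g := ((c : N) : G))
        (by rw [← pow_mul, mul_comm, pow_mul, hyp, one_pow]) hyi1
        (by simpa using (congrArg Subtype.val hcomm).symm)
      obtain ⟨k, hk⟩ := hR0 ⟨c, hc⟩
      have h3 : c ^ r ^ k = 1 := congrArg Subtype.val hk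
      have h4 : c ^ p = 1 := Subtype.ext (by simpa using h2)
      have := pow_gcd_eq_one.2 ⟨h3, h4⟩
      rwa [show Nat.gcd (r ^ k) p = 1 from
        Nat.Coprime.pow_left k ((Nat.coprime_primes hr S.hp).2 hrp), pow_one] at this
    obtain ⟨v, hvV, hv1⟩ := V.bot_or_exists_ne_one.resolve_left hV1
    have hcard := pow_card_eq_one_of_norm φ R₀ p S.hp.pos y hyN hnorm hfix hfree ⟨v, hvV⟩
    obtain ⟨k, hk⟩ := IsPGroup.iff_card.1 hR0
    rw [hk] at hcard
    have h4 : v ^ p = 1 := hVp ⟨v, hvV⟩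
    have := pow_gcd_eq_one.2 ⟨(congrArg Subtype.val hcard), h4⟩
    rw [show Nat.gcd (r ^ k) p = 1 from
      Nat.Coprime.pow_left k ((Nat.coprime_primes hr S.hp).2 hrp), pow_one] at this
    exact hv1 this

/-- Distinct Sylow `p`-subgroups meet trivially. -/
theorem sylow_inf_eq_bot [Finite G] (P₀ Q₀ : Sylow p G) (hne : P₀ ≠ Q₀) :
    (P₀ : Subgroup G) ⊓ Q₀ = ⊥ := by
  haveI := Fact.mk S.hp
  by_contra hbad
  obtain ⟨⟨P, Q⟩, ⟨hPQ, hD1⟩, hmax⟩ := Set.exists_max_image
    {x : Sylow p G × Sylow p G | x.1 ≠ x.2 ∧ (x.1 : Subgroup G) ⊓ x.2 ≠ ⊥}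
    (fun x => Nat.card ↥((x.1 : Subgroup G) ⊓ x.2)) (Set.toFinite _) ⟨(P₀, Q₀), hne, hbad⟩
  simp only at hPQ hD1 hmax
  set D := (P : Subgroup G) ⊓ Q with hDdef
  have hD : IsPGroup p D := P.2.to_le inf_le_left
  by_cases hp2 : p = 2
  · -- abelian Sylow subgroups
    obtain ⟨x, hxD, hx1⟩ := D.bot_or_exists_ne_one.resolve_left hD1
    have hcomm : ∀ R : Sylow p G, x ∈ (R : Subgroup G) →
        (R : Subgroup G) ≤ centralizer ({x} : Set G) := by
      intro R hxR u hu
      rw [mem_centralizer_singleton_iff]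
      have e : ∀ w ∈ (R : Subgroup G), w * w = 1 := fun w hw => by
        have h' := S.pow_p_of_mem R.2 hw
        rwa [hp2, pow_two] at h'
      have h1 := e _ (mul_mem hu hxR)
      rw [← inv_eq_of_mul_eq_one_right h1, mul_inv_rev, inv_eq_of_mul_eq_one_right (e _ hxR),
        inv_eq_of_mul_eq_one_right (e _ hu)]
    have hCp : IsPGroup p (centralizer ({x} : Set G)) :=
      S.isPGroup_centralizer (S.pow_p_of_mem hD hxD) hx1 fun g hg =>
        (mem_centralizer_singleton_iff.1 hg).symm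
    exact hPQ (Sylow.ext ((P.3 hCp (hcomm P hxD.1)).symm.trans (Q.3 hCp (hcomm Q hxD.2))))
  obtain ⟨C, hC, hCmem⟩ := S.exists_closed hp2 D hD hD1
  obtain ⟨R, hR⟩ := hC.exists_le_sylow
  have key : ∀ P' : Sylow p G, D ≤ P' → D ≠ (P' : Subgroup G) → R = P' := by
    intro P' hle hne'
    have hlt := Fusion.lt_inf_normalizer_of_isPGroup P'.2 (lt_of_le_of_ne hle hne')
    have hsub : (P' : Subgroup G) ⊓ normalizer (D : Set G) ≤ (R : Subgroup G) ⊓ P' :=
      le_inf (fun g hg => hR (hCmem g hg.2 (S.pow_p_of_mem P'.2 hg.1))) inf_le_left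
    by_contra hne''
    have hlt' := hlt.trans_le hsub
    have h1 := hmax (R, P') ⟨hne'', fun e => by rw [e] at hlt'; exact not_lt_bot hlt'⟩
    exact absurd (Set.ncard_lt_ncard (SetLike.coe_ssubset_coe.2 hlt') (Set.toFinite _))
      (by rw [← Nat.card_coe_set_eq, ← Nat.card_coe_set_eq]; exact not_lt.2 h1)
  have hcardeq : Nat.card (P : Subgroup G) = Nat.card (Q : Subgroup G) := by
    rw [S.card_sylow, S.card_sylow]
  have h1 := key P inf_le_left fun e => hPQ (Sylow.ext (eq_of_le_of_card_ge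
    (show (P : Subgroup G) ≤ Q from e ▸ inf_le_right) hcardeq.ge))
  have h2 := key Q inf_le_right fun e => hPQ (Sylow.ext (eq_of_le_of_card_ge
    (show (Q : Subgroup G) ≤ P from e ▸ inf_le_left) hcardeq.le).symm)
  exact hPQ (h1.symm.trans h2)

end Spec

end Cfsg.Agent.RecogLin
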